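import Cfsg.Agent.Lib.Spor.J4.Order.Deriv
import Cfsg.Agent.Lib.Spor.J4.Order.SpanData

/-!
The elementary abelian normal subgroup: the order of `⟨x, y, s⟩` is at most `2¹¹·|M₂₄|`.
-/

set_option autoImplicit false

namespace CfsgLib.Spor.J4.Order

open CfsgLib.PresCert CfsgLib.Spor Cfsg CfsgLib.Spor.J4.Index
open scoped Pointwise

/-- the presented group -/
local notation "J" => Cfsg.Spor.J4

open Classical in
/-- some element moving the base sextet to sextet `k` -/
noncomputable def toSx (k : ℕ) : M24 := if h : k < 1771 then (exists_to_sx h).choose else 1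

theorem toSx_spec {k : ℕ} (hk : k < 1771) : toSx k • Sx baseSext = Sx k := by
  rw [toSx, dif_pos hk]; exact (exists_to_sx hk).choose_spec

/-- the element of a sextet -/
noncomputable def sE (k : ℕ) : J := psi (toSx k) * s0 * (psi (toSx k))⁻¹

theorem ident_shapes :
    (id_sq.segs.map fun e => (e.2.1, e.2.2.1)) = [(false, idP), (false, idP)] ∧
    (id_stabA.segs.map fun e => (e.2.1, e.2.2.1)) =
      [(false, idP), (true, (sextGens.getD 0 (0, 0)).1)] ∧
    (id_stabB.segs.map fun e => (e.2.1, e.2.2.1)) =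
      [(false, idP), (true, (sextGens.getD 1 (0, 0)).1)] := by decide +kernel

theorem segs_prod {I : Ident} {l : List (Bool × ℕ)}
    (h : (I.segs.map fun e => (e.2.1, e.2.2.1)) = l) :
    (I.segs.map segVal).prod = (l.map fun e => bif e.1 then (psi (el e.2) * s0 * (psi (el e.2))⁻¹)⁻¹
      else psi (el e.2) * s0 * (psi (el e.2))⁻¹).prod := by
  rw [← h, List.map_map]
  rfl

theorem s0_sq : s0 * s0 = 1 := by
  have h := okIdent_sound id_sq_ok
  rw [segs_prod ident_shapes.1] at h
  simpa [valid_id.2] using h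

theorem s0_inv : s0⁻¹ = s0 := inv_eq_of_mul_eq_one_right s0_sq

theorem stab_comm {g : M24} (hg : g • Sx baseSext = Sx baseSext) : psi g * s0 = s0 * psi g := by
  have hA := okIdent_sound id_stabA_ok
  have hB := okIdent_sound id_stabB_ok
  rw [segs_prod ident_shapes.2.1] at hA
  rw [segs_prod ident_shapes.2.2] at hB
  simp only [List.map_cons, List.map_nil, List.prod_cons, List.prod_nil, cond_false, cond_true,
    valid_id.2, map_one, inv_one, one_mul, mul_one] at hA hB
  have h : g ∈ Subgroup.closure {g | ∃ p ∈ sextGens, g = el p.1} := stab_sx_eq ▸ hg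
  have hle : Subgroup.closure {g | ∃ p ∈ sextGens, g = el p.1} ≤
      (Subgroup.centralizer {s0}).comap psi := by
    rw [Subgroup.closure_le]
    rintro _ ⟨p, hp, rfl⟩
    simp only [SetLike.mem_coe, Subgroup.mem_comap, Subgroup.mem_centralizer_singleton_iff]
    have key : ∀ P : J, s0 * (P * s0 * P⁻¹)⁻¹ = 1 → P * s0 = s0 * P := fun P e => by
      calc P * s0 = P * s0 * P⁻¹ * P := by group
        _ = s0 * P := by rw [← mul_inv_eq_one.1 e]
    have hlist : sextGens = [sextGens.getD 0 (0, 0), sextGens.getD 1 (0, 0)] := rfl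
    rw [hlist] at hp
    simp only [List.mem_cons, List.not_mem_nil, or_false] at hp
    rcases hp with rfl | rfl
    · exact key _ hA
    · exact key _ hB
  exact Subgroup.mem_centralizer_singleton_iff.1 (hle h)

theorem sE_eq {k : ℕ} (hk : k < 1771) {g : M24} (hg : g • Sx baseSext = Sx k) :
    sE k = psi g * s0 * (psi g)⁻¹ := by
  have h : ((toSx k)⁻¹ * g) • Sx baseSext = Sx baseSext := by
    rw [mul_smul, hg, inv_smul_eq_iff, toSx_spec hk]
  have hc := stab_comm h
  rw [map_mul, map_inv] at hc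
  rw [sE]
  calc psi (toSx k) * s0 * (psi (toSx k))⁻¹
      = psi (toSx k) * (s0 * ((psi (toSx k))⁻¹ * psi g)) * (psi g)⁻¹ := by group
    _ = psi (toSx k) * (((psi (toSx k))⁻¹ * psi g) * s0) * (psi g)⁻¹ := by rw [hc]
    _ = psi g * s0 * (psi g)⁻¹ := by group

theorem sE_base : sE baseSext = s0 := by
  rw [sE_eq baseSext_lt (g := 1) (one_smul _ _), map_one]
  simp

theorem sE_sq {k : ℕ} : sE k * sE k = 1 := by
  rw [sE]
  calc psi (toSx k) * s0 * (psi (toSx k))⁻¹ * (psi (toSx k) * s0 * (psi (toSx k))⁻¹)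
      = psi (toSx k) * (s0 * s0) * (psi (toSx k))⁻¹ := by group
    _ = 1 := by rw [s0_sq]; group

theorem sE_inv {k : ℕ} : (sE k)⁻¹ = sE k := inv_eq_of_mul_eq_one_right sE_sq

theorem sE_conj {k k' : ℕ} {g : M24} (hk : k < 1771) (hk' : k' < 1771)
    (h : g • Sx k = Sx k') : sE k' = psi g * sE k * (psi g)⁻¹ := by
  rw [sE_eq hk' (g := g * toSx k) (by rw [mul_smul, toSx_spec hk, h]), sE, map_mul]
  group

theorem segs_sE {l : List (ℕ × Bool × ℕ × ℕ)}
    (h : (l.all fun e => okPerm e.2.2.1 e.2.2.2 && moveSx e.2.2.1 baseSext e.1) = true) :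
    (l.map segVal).prod = (l.map fun e => sE e.1).prod := by
  refine congrArg List.prod (List.map_congr_left fun e he => ?_)
  have := List.all_eq_true.1 h e he
  simp only [Bool.and_eq_true] at this
  obtain ⟨hv, -, -⟩ := okPerm_spec this.1
  obtain ⟨-, hk, hm⟩ := moveSx_spec (rep_el hv) this.2
  obtain ⟨k, rev, a, ai⟩ := e
  cases rev with
  | true => exact (congrArg Inv.inv (sE_eq hk hm)).symm.trans sE_inv
  | false => exact (sE_eq hk hm).symm

/-- sextets of the segments -/
def segIdx (I : Ident) : List ℕ := I.segs.map Prod.fst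

theorem ident_sE {I : Ident} (h : okIdent I = true)
    (hs : (I.segs.all fun e => okPerm e.2.2.1 e.2.2.2 && moveSx e.2.2.1 baseSext e.1) = true) :
    ((segIdx I).map sE).prod = 1 := by
  rw [segIdx, List.map_map]
  exact (segs_sE hs).symm.trans (okIdent_sound h)

theorem ident_segs :
    ([id_line, id_com2, id_tuv0].all fun I =>
      I.segs.all fun e => okPerm e.2.2.1 e.2.2.2 && moveSx e.2.2.1 baseSext e.1) = true ∧
    eqL (segIdx id_line) baseLine = true ∧ baseLine.length = 3 ∧
    eqL (segIdx id_com2) [baseSext, classReps.getD 2 0, baseSext, classReps.getD 2 0] = true ∧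
    eqL (segIdx id_tuv0) [classReps.getD 0 0, tuvFactors.2, tuvFactors.1] = true := by
  decide +kernel

theorem line_base : (baseLine.map sE).prod = 1 := by
  obtain ⟨hs, hl, -⟩ := ident_segs
  rw [← eqL_eq hl]
  exact ident_sE id_line_ok (List.all_eq_true.1 hs _ (by simp))

/-- check an instance of the base line -/
noncomputable def okLine : Nat × Nat × Nat × Nat × Nat × Nat → Bool
  | (u, v, w, p, a, ai) =>
    let l := [[0, 1, 2], [1, 2, 0], [2, 0, 1], [1, 0, 2], [0, 2, 1], [2, 1, 0]].getD p []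
    Nat.blt p 6 && okPerm a ai &&
      moveSx a (baseLine.getD (l.getD 0 0) 0) u && moveSx a (baseLine.getD (l.getD 1 0) 0) v &&
      moveSx a (baseLine.getD (l.getD 2 0) 0) w

theorem line_sound {e : ℕ × ℕ × ℕ × ℕ × ℕ × ℕ} (h : okLine e = true) :
    e.1 < 1771 ∧ e.2.1 < 1771 ∧ e.2.2.1 < 1771 ∧ sE e.1 * sE e.2.1 = sE e.2.2.1 := by
  obtain ⟨u, v, w, p, a, ai⟩ := e
  simp only [okLine, Bool.and_eq_true] at h
  obtain ⟨⟨⟨⟨hp, hperm⟩, hu⟩, hv⟩, hw⟩ := h
  obtain ⟨hval, -, -⟩ := okPerm_spec hperm
  obtain ⟨cu, du, eu⟩ := moveSx_spec (rep_el hval) hu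
  obtain ⟨cv, dv, ev⟩ := moveSx_spec (rep_el hval) hv
  obtain ⟨cw, dw, ew⟩ := moveSx_spec (rep_el hval) hw
  refine ⟨du, dv, dw, ?_⟩
  dsimp only
  rw [sE_conj cu du eu, sE_conj cv dv ev, sE_conj cw dw ew]
  have hl := line_base
  have hlen : baseLine = [baseLine.getD 0 0, baseLine.getD 1 0, baseLine.getD 2 0] := rfl
  rw [hlen] at hl
  simp only [List.map_cons, List.map_nil, List.prod_cons, List.prod_nil, mul_one] at hl
  set A := sE (baseLine.getD 0 0) with hA
  set B := sE (baseLine.getD 1 0) with hB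
  set C := sE (baseLine.getD 2 0) with hC
  have iA : A⁻¹ = A := sE_inv
  have iB : B⁻¹ = B := sE_inv
  have iC : C⁻¹ = C := sE_inv
  have e0 : A * B = C := by
    rw [← mul_assoc] at hl
    rw [eq_inv_of_mul_eq_one_left hl, iC]
  have e1 : B * C = A := by rw [eq_inv_of_mul_eq_one_right hl, iA]
  have e3 : B * A = C := by rw [← iC, ← e0, mul_inv_rev, iA, iB]
  have e4 : C * B = A := by rw [← iA, ← e1, mul_inv_rev, iB, iC]
  have e2 : C * A = B := by
    rw [← e0, mul_assoc, e3, ← e0, ← mul_assoc, ← sq, sq]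
    rw [show A * A = 1 from sE_sq, one_mul]
  have e5 : A * C = B := by rw [← iB, ← e2, mul_inv_rev, iA, iC]
  have key : ∀ (g a b c : J), a * b = c → g * a * g⁻¹ * (g * b * g⁻¹) = g * c * g⁻¹ :=
    fun g a b c hh => by rw [← hh]; group
  have hp' := blt_lt hp
  interval_cases p
  exacts [key _ _ _ _ e0, key _ _ _ _ e1, key _ _ _ _ e2, key _ _ _ _ e3, key _ _ _ _ e5,
    key _ _ _ _ e4]

/-- a pair conjugate to the base sextet and a representative -/
noncomputable def okPair : Nat × Nat × Nat × Nat × Nat → Bool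
  | (c, u, v, a, ai) =>
    Nat.blt c 3 && okPerm a ai && moveSx a baseSext u && moveSx a (classReps.getD c 0) v

theorem pair_sound {e : ℕ × ℕ × ℕ × ℕ × ℕ} (h : okPair e = true) {P : ℕ → Prop}
    (hP : ∀ c < 3, P c → Commute (sE baseSext) (sE (classReps.getD c 0))) (hc : P e.1) :
    Commute (sE e.2.1) (sE e.2.2.1) := by
  obtain ⟨c, u, v, a, ai⟩ := e
  simp only [okPair, Bool.and_eq_true] at h
  obtain ⟨⟨⟨h1, hperm⟩, hu⟩, hv⟩ := h
  obtain ⟨hval, -, -⟩ := okPerm_spec hperm
  obtain ⟨cu, du, eu⟩ := moveSx_spec (rep_el hval) hu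
  obtain ⟨cv, dv, ev⟩ := moveSx_spec (rep_el hval) hv
  dsimp only
  rw [sE_conj cu du eu, sE_conj cv dv ev]
  exact (Commute.conj_iff _).2 (hP c (blt_lt h1) hc)

theorem comm_two : Commute (sE baseSext) (sE (classReps.getD 2 0)) := by
  obtain ⟨hs, -, -, h2, -⟩ := ident_segs
  have h := ident_sE id_com2_ok (List.all_eq_true.1 hs _ (by simp))
  rw [eqL_eq h2] at h
  simp only [List.map_cons, List.map_nil, List.prod_cons, List.prod_nil, mul_one] at h
  rw [← mul_assoc] at h
  have := eq_inv_of_mul_eq_one_left h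
  rwa [mul_inv_rev, sE_inv, sE_inv] at this

theorem comLines_ok : (comLines.all okLine) = true := by decide +kernel

theorem comm_one : Commute (sE baseSext) (sE (classReps.getD 1 0)) := by
  have hl : ∀ i < 6, sE (comLines.getD i (0, 0, 0, 0, 0, 0)).1 *
      sE (comLines.getD i (0, 0, 0, 0, 0, 0)).2.1 = sE (comLines.getD i (0, 0, 0, 0, 0, 0)).2.2.1 := by
    intro i hi
    refine (line_sound (List.all_eq_true.1 comLines_ok _ ?_)).2.2.2
    have hlen : comLines.length = 6 := rfl
    rw [List.getD_eq_getElem _ _ (hlen ▸ hi)]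
    exact List.getElem_mem _
  -- the six lines
  have l0 : sE 1699 * sE 1523 = sE baseSext := hl 0 (by norm_num)
  have l1 : sE (classReps.getD 1 0) * sE 1699 = sE 1700 := hl 1 (by norm_num)
  have l2 : sE 344 * sE 348 = sE (classReps.getD 1 0) := hl 2 (by norm_num)
  have l3 : sE 348 * sE baseSext = sE 1672 := hl 3 (by norm_num)
  have l4 : sE 1672 * sE 1700 = sE 600 := hl 4 (by norm_num)
  have l5 : sE 344 * sE 600 = sE 1523 := hl 5 (by norm_num)
  set a := sE baseSext with ha
  set b := sE (classReps.getD 1 0) with hb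
  have h : b * a * b * a = 1 := by
    calc b * a * b * a = b * a * (b * sE 1699) * sE 1523 := by rw [← l0]; group
      _ = b * a * sE 1700 * sE 1523 := by rw [l1]
      _ = sE 344 * (sE 348 * a) * sE 1700 * sE 1523 := by rw [← l2]; group
      _ = sE 344 * (sE 1672 * sE 1700) * sE 1523 := by rw [l3]; group
      _ = sE 1523 * sE 1523 := by rw [l4, l5]
      _ = 1 := sE_sq
  have := eq_inv_of_mul_eq_one_left (show b * a * (b * a) = 1 by rw [← h]; group)
  rw [mul_inv_rev, ha, hb, sE_inv, sE_inv] at this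
  exact this.symm

theorem tuvPairs_ok : (tuvPairs.all okPair) = true ∧
    (tuvPairs.map fun e => (e.2.1, e.2.2.1)) = [(baseSext, tuvFactors.1), (baseSext, tuvFactors.2)] ∧
    (tuvPairs.all fun e => Nat.beq e.1 1 || Nat.beq e.1 2) = true := by decide +kernel

theorem comm_zero : Commute (sE baseSext) (sE (classReps.getD 0 0)) := by
  obtain ⟨hs, -, -, -, h3⟩ := ident_segs
  have h := ident_sE id_tuv0_ok (List.all_eq_true.1 hs _ (by simp))
  rw [eqL_eq h3] at h
  simp only [List.map_cons, List.map_nil, List.prod_cons, List.prod_nil, mul_one] at h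
  have e := eq_inv_of_mul_eq_one_left h
  rw [mul_inv_rev, sE_inv, sE_inv] at e
  rw [e]
  obtain ⟨hok, hshape, hcls⟩ := tuvPairs_ok
  have hc : ∀ p ∈ tuvPairs.map fun e => (e.2.1, e.2.2.1), Commute (sE p.1) (sE p.2) := by
    intro p hp
    obtain ⟨q, hq, rfl⟩ := List.mem_map.1 hp
    refine pair_sound (List.all_eq_true.1 hok q hq) (P := fun c => c = 1 ∨ c = 2) ?_ ?_
    · intro c _ hc
      rcases hc with rfl | rfl
      exacts [comm_one, comm_two]
    · simpa using List.all_eq_true.1 hcls q hq
  rw [hshape] at hc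
  exact (hc _ (by simp : (baseSext, tuvFactors.1) ∈ _)).mul_right
    (hc _ (by simp : (baseSext, tuvFactors.2) ∈ _))

theorem pairs_ok : (basisPairs.all okPair) = true := by decide +kernel

/-- all pairs of the basis occur -/
theorem pairs_cover : ((List.range 11).all fun i => (List.range i).all fun j =>
    basisPairs.any fun e => Nat.beq e.2.1 (basis.getD i 0) && Nat.beq e.2.2.1 (basis.getD j 0)) =
      true := by decide +kernel

theorem basis_comm {u v : ℕ} (hu : u ∈ basis) (hv : v ∈ basis) : Commute (sE u) (sE v) := by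
  obtain ⟨i, hi, rfl⟩ := List.getElem_of_mem hu
  obtain ⟨j, hj, rfl⟩ := List.getElem_of_mem hv
  have hlen : basis.length = 11 := rfl
  have key : ∀ a b, b < a → a < 11 → Commute (sE (basis.getD a 0)) (sE (basis.getD b 0)) := by
    intro a b hba ha
    have := List.all_eq_true.1 (List.all_eq_true.1 pairs_cover a (List.mem_range.2 ha)) b
      (List.mem_range.2 hba)
    obtain ⟨e, he, h⟩ := List.any_eq_true.1 this
    simp only [Bool.and_eq_true, Nat.beq_eq] at h
    rw [← h.1, ← h.2]
    refine pair_sound (List.all_eq_true.1 pairs_ok e he) (P := fun _ => True) (fun c hc _ => ?_)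
      trivial
    interval_cases c
    exacts [comm_zero, comm_one, comm_two]
  rw [← List.getD_eq_getElem basis 0 hi, ← List.getD_eq_getElem basis 0 hj]
  rcases lt_trichotomy i j with h | rfl | h
  · exact (key j i h (hlen ▸ hj)).symm
  · exact Commute.refl _
  · exact key i j h (hlen ▸ hi)

/-- the subgroup of the sextet elements -/
noncomputable def qSub : Subgroup J := Subgroup.closure {q | q ∈ basis.map sE}

/-- check the spanning lines, keeping the set of reached sextets as a mask -/
noncomputable def okSpan : Nat → List (Nat × Nat × Nat × Nat × Nat × Nat) → Bool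
  | m, [] => Nat.beq m (2 ^ 1771 - 1)
  | m, e :: es => okLine e && Nat.testBit m e.1 && Nat.testBit m e.2.1 &&
      okSpan (Nat.lor m (Nat.shiftLeft 1 e.2.2.1)) es

/-- mask of the basis -/
noncomputable def basisMask : Nat := basis.foldl (fun m b => Nat.lor m (Nat.shiftLeft 1 b)) 0

theorem span_ok : okSpan basisMask spanLines = true := by decide +kernel

theorem span_sound : ∀ (es : List (ℕ × ℕ × ℕ × ℕ × ℕ × ℕ)) (m : ℕ), okSpan m es = true →
    (∀ k, m.testBit k = true → sE k ∈ qSub) → ∀ k < 1771, sE k ∈ qSub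
  | [], m, h, hm, k, hk => by
    simp only [okSpan, Nat.beq_eq] at h
    exact hm k (by rw [h, Nat.testBit_two_pow_sub_one]; simp [hk])
  | e :: es, m, h, hm, k, hk => by
    simp only [okSpan, Bool.and_eq_true] at h
    obtain ⟨⟨⟨hl, hu⟩, hv⟩, hrest⟩ := h
    refine span_sound es _ hrest (fun j hj => ?_) k hk
    change (m ||| (1 <<< e.2.2.1)).testBit j = true at hj
    rw [Nat.testBit_or, Bool.or_eq_true, Nat.one_shiftLeft, Nat.testBit_two_pow,
      decide_eq_true_eq] at hj
    rcases hj with hj | rfl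
    · exact hm j hj
    · rw [← (line_sound hl).2.2.2]
      exact mul_mem (hm _ hu) (hm _ hv)

theorem basisMask_spec {k : ℕ} (h : basisMask.testBit k = true) : k ∈ basis := by
  have key : ∀ (l : List ℕ) (m : ℕ),
      (l.foldl (fun m b => Nat.lor m (Nat.shiftLeft 1 b)) m).testBit k = true →
        m.testBit k = true ∨ k ∈ l := by
    intro l
    induction l with
    | nil => exact fun m hm => Or.inl hm
    | cons b l ih =>
      intro m hm
      rcases ih _ hm with h | h
      · change (m ||| (1 <<< b)).testBit k = true at h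
        rw [Nat.testBit_or, Bool.or_eq_true, Nat.one_shiftLeft, Nat.testBit_two_pow,
          decide_eq_true_eq] at h
        rcases h with h | rfl
        · exact Or.inl h
        · exact Or.inr (List.mem_cons_self ..)
      · exact Or.inr (List.mem_cons_of_mem _ h)
  rcases key _ 0 h with h | h
  · simp at h
  · exact h

theorem sE_mem {k : ℕ} (hk : k < 1771) : sE k ∈ qSub :=
  span_sound _ _ span_ok (fun j hj => Subgroup.subset_closure
    (List.mem_map.2 ⟨j, basisMask_spec hj, rfl⟩)) k hk

theorem card_closure_invol : ∀ (l : List J), (∀ a ∈ l, ∀ b ∈ l, Commute a b) →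
    (∀ a ∈ l, a * a = 1) → CardLE (Subgroup.closure {q | q ∈ l}) (2 ^ l.length)
  | [], _, _ => by
    have : Subgroup.closure {q : J | q ∈ ([] : List J)} = ⊥ := by simp
    rw [this]
    exact CardLE.bot
  | a :: l, hc, hs => by
    obtain ⟨ih0, ih⟩ := card_closure_invol l
      (fun p hp q hq => hc p (List.mem_cons_of_mem _ hp) q (List.mem_cons_of_mem _ hq))
      (fun p hp => hs p (List.mem_cons_of_mem _ hp))
    set K := Subgroup.closure {q | q ∈ l}
    obtain ⟨z0, zb⟩ := CardLE.zpowers (a := a) (n := 2) (by norm_num)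
      (by rw [sq]; exact hs a (List.mem_cons_self ..))
    have hcl : K ≤ Subgroup.centralizer (Subgroup.zpowers a : Set J) := by
      rw [Subgroup.closure_le]
      intro q hq
      rw [SetLike.mem_coe, Subgroup.mem_centralizer_iff]
      rintro _ ⟨n, rfl⟩
      exact ((hc a (List.mem_cons_self ..) q (List.mem_cons_of_mem _ hq)).zpow_left n).eq
    have hcomm : ∀ (p : K) (q : Subgroup.zpowers a), (q : J) * p = (p : J) * q :=
      fun p q => Subgroup.mem_centralizer_iff.1 (hcl p.2) q q.2
    let f : K × Subgroup.zpowers a →* J := MonoidHom.mk' (fun p => (p.1 : J) * (p.2 : J))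
      fun p q => by
        show ((p.1 : J) * q.1) * ((p.2 : J) * q.2) = (p.1 : J) * p.2 * ((q.1 : J) * q.2)
        rw [mul_assoc (p.1 : J), ← mul_assoc (q.1 : J), ← hcomm q.1 p.2]
        group
    have : Finite K := Nat.finite_of_card_ne_zero ih0
    have : Finite (Subgroup.zpowers a) := Nat.finite_of_card_ne_zero z0
    have hle : Subgroup.closure {q | q ∈ a :: l} ≤ f.range := by
      rw [Subgroup.closure_le]
      intro q hq
      rcases List.mem_cons.1 hq with rfl | hq
      · exact ⟨(1, ⟨q, Subgroup.mem_zpowers q⟩), by simp [f]⟩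
      · exact ⟨(⟨q, Subgroup.subset_closure hq⟩, 1), by simp [f]⟩
    have : Finite f.range := Finite.of_surjective _ f.rangeRestrict_surjective
    have : Finite (Subgroup.closure {q | q ∈ a :: l}) :=
      Finite.of_injective _ (Subgroup.inclusion_injective hle)
    refine ⟨Nat.card_pos.ne', ?_⟩
    refine (Nat.card_le_card_of_injective _ (Subgroup.inclusion_injective hle)).trans ?_
    refine (Nat.card_le_card_of_surjective _ f.rangeRestrict_surjective).trans ?_
    rw [Nat.card_prod, List.length_cons, pow_succ]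
    exact Nat.mul_le_mul ih zb

theorem cardLE_qSub : CardLE qSub (2 ^ 11) := by
  have h := card_closure_invol (basis.map sE) (fun a ha b hb => by
    obtain ⟨u, hu, rfl⟩ := List.mem_map.1 ha
    obtain ⟨v, hv, rfl⟩ := List.mem_map.1 hb
    exact basis_comm hu hv) (fun a ha => by
    obtain ⟨u, -, rfl⟩ := List.mem_map.1 ha
    exact sE_sq)
  rwa [List.length_map, show basis.length = 11 from rfl] at h

theorem basis_lt : (basis.all fun b => Nat.blt b 1771) = true := by decide +kernel

theorem conj_mem {q : J} (hq : q ∈ qSub) (g : M24) : psi g * q * (psi g)⁻¹ ∈ qSub := by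
  induction hq using Subgroup.closure_induction with
  | mem z hz =>
    obtain ⟨u, hu, rfl⟩ := List.mem_map.1 hz
    have hu' := blt_lt (List.all_eq_true.1 basis_lt u hu)
    obtain ⟨k, hk, e⟩ := exists_sx g hu'
    rw [← sE_conj hu' hk e]
    exact sE_mem hk
  | one => simp
  | mul a b _ _ ha hb =>
    have := mul_mem ha hb
    simpa [mul_assoc] using this
  | inv a _ ha =>
    have := inv_mem ha
    simpa [mul_assoc] using this

theorem baseWord_eq : eqL baseWord (baseRels.getD 3 ([], 0, 0)).1 = true := by decide +kernel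

theorem gs_eq : gs = s0 := by
  obtain ⟨-, -, -, -, h, -⟩ := rel_words
  have hS : ((wJ wH)⁻¹ * gt * wJ wH) * ((wJ wH)⁻¹ * gt * wJ wH) = 1 := by
    calc _ = (wJ wH)⁻¹ * (gt * gt) * wJ wH := by group
      _ = 1 := by rw [gt_sq]; group
  have key := triple_identity gy ((wJ wH)⁻¹ * gt * wJ wH) gy3 hS
  have e : (actProd baseWord) = gs⁻¹ := by
    rw [gs, ← key, eqL_eq baseWord_eq, actProd_eq, okWords_spec (by decide) h]
    simp only [List.map_cons, List.map_nil, List.reverse_cons, List.reverse_nil, List.nil_append,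
      List.cons_append, List.prod_cons, List.prod_nil, tU, wJ_append, wJ_y2, wJ_y, mul_inv_rev,
      mul_assoc, mul_one]
  rw [s0, ← actProd_inv, e, inv_inv]

/-- the map from pairs -/
theorem subH_decomp {h : J} (hh : h ∈ subH) : ∃ q ∈ qSub, ∃ n : M24, h = q * psi n := by
  induction hh using Subgroup.closure_induction with
  | mem z hz =>
    rcases hz with rfl | rfl | rfl
    · exact ⟨1, one_mem _, M24Iso.ga, by rw [psi, M24Iso.toHom_ga, one_mul]⟩
    · exact ⟨1, one_mem _, M24Iso.gb, by rw [psi, M24Iso.toHom_gb, one_mul]⟩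
    · exact ⟨gs, gs_eq ▸ sE_base ▸ sE_mem baseSext_lt, 1, by rw [map_one, mul_one]⟩
  | one => exact ⟨1, one_mem _, 1, by simp⟩
  | mul a b _ _ ha hb =>
    obtain ⟨p, hp, m, rfl⟩ := ha
    obtain ⟨q, hq, n, rfl⟩ := hb
    refine ⟨p * (psi m * q * (psi m)⁻¹), mul_mem hp (conj_mem hq m), m * n, ?_⟩
    rw [map_mul]
    group
  | inv a _ ha =>
    obtain ⟨p, hp, m, rfl⟩ := ha
    refine ⟨psi m⁻¹ * p⁻¹ * (psi m⁻¹)⁻¹, conj_mem (inv_mem hp) _, m⁻¹, ?_⟩
    rw [map_inv]
    group

/-- The subgroup `⟨x, y, s⟩` has order at most `2¹¹·|M₂₄|`. -/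
theorem cardLE_subH : CardLE subH (2 ^ 11 * 244823040) := by
  obtain ⟨h0, hq⟩ := cardLE_qSub
  have : Finite qSub := Nat.finite_of_card_ne_zero h0
  have hmem : ∀ (q : qSub) (n : M24), (q : J) * psi n ∈ subH := by
    intro q n
    refine mul_mem ?_ ?_
    · have hle : qSub ≤ subH := by
        rw [qSub, Subgroup.closure_le]
        intro z hz
        obtain ⟨u, hu, rfl⟩ := List.mem_map.1 hz
        have hr : ∀ g : M24, psi g ∈ subH := fun g => by
          have hg : psi g ∈ Subgroup.closure {gx, gy} := M24Iso.range_toHom m24Rels ▸ ⟨g, rfl⟩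
          exact Subgroup.closure_mono (fun z hz => by
            rcases hz with rfl | rfl
            exacts [Or.inl rfl, Or.inr (Or.inl rfl)]) hg
        rw [SetLike.mem_coe, sE]
        exact mul_mem (mul_mem (hr _) (gs_eq ▸ Subgroup.subset_closure (Or.inr (Or.inr rfl))))
          (inv_mem (hr _))
      exact hle q.2
    · have hg : psi n ∈ Subgroup.closure {gx, gy} := M24Iso.range_toHom m24Rels ▸ ⟨n, rfl⟩
      exact Subgroup.closure_mono (fun z hz => by
        rcases hz with rfl | rfl
        exacts [Or.inl rfl, Or.inr (Or.inl rfl)]) hg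
  let f : qSub × M24 → subH := fun p => ⟨_, hmem p.1 p.2⟩
  have hf : Function.Surjective f := fun h => by
    obtain ⟨q, hq, n, e⟩ := subH_decomp h.2
    exact ⟨(⟨q, hq⟩, n), Subtype.ext e.symm⟩
  have : Finite subH := Finite.of_surjective f hf
  refine ⟨Nat.card_pos.ne', (Nat.card_le_card_of_surjective f hf).trans ?_⟩
  rw [Nat.card_prod, natCard_M24]
  exact Nat.mul_le_mul_right _ hq

end CfsgLib.Spor.J4.Order
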