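import Cfsg.Agent.Lib.Spor.J4.Order.Sext

/-!
Checker for identities among products of conjugates of `t`.
-/

set_option autoImplicit false

namespace CfsgLib.Spor.J4.Order

open CfsgLib.PresCert CfsgLib.Spor.J4.Index

/-- a rewriting step -/
structure Move where
  /-- position -/
  pos : Nat
  /-- relation form -/
  form : Nat
  /-- number of letters replaced -/
  cut : Nat
  /-- conjugating permutation -/
  conj : Nat
  /-- its inverse -/
  conjInv : Nat
  /-- the new word -/
  next : List Nat
  /-- the new permutation in front -/
  front : Nat

/-- an identity: a word made of sextet words and a derivation of its triviality -/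
structure Ident where
  /-- the word -/
  word : List Nat
  /-- sextet, reversal, permutation and inverse for each segment of three letters -/
  segs : List (Nat × Bool × Nat × Nat)
  /-- the derivation -/
  steps : List Move

/-- the four relation forms: trios, tail and inverse tail -/
noncomputable def forms : List (List Nat × Nat × Nat) :=
  let r := baseRels.getD 1 ([], 0, 0)
  [baseRels.getD 0 ([], 0, 0), r, (r.1.drop 1 ++ r.1.take 1, r.2.1, r.2.2),
    baseRels.getD 2 ([], 0, 0)]

/-- equality of lists -/
noncomputable def eqL : List Nat → List Nat → Bool
  | [], [] => true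
  | x :: a, y :: b => Nat.beq x y && eqL a b
  | _, _ => false

/-- one step -/
noncomputable def okMove (w : List Nat) (n : Nat) (m : Move) : Bool :=
  let F := forms.getD m.form ([], 0, 0)
  let ti := compP (compP m.conj F.2.2) m.conjInv
  let k := F.1.length
  Nat.blt m.form 4 && Nat.ble m.cut k && Nat.ble (Nat.add m.pos m.cut) w.length &&
    okPerm m.conj m.conjInv &&
    okW m.conj (F.1.take m.cut) ((w.drop m.pos).take m.cut) &&
    okW m.conj (F.1.drop m.cut) ((m.next.drop m.pos).take (Nat.sub k m.cut)).reverse &&
    okW ti (w.take m.pos) (m.next.take m.pos) &&
    eqL (m.next.drop (Nat.add m.pos (Nat.sub k m.cut))) (w.drop (Nat.add m.pos m.cut)) &&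
    Nat.beq m.front (compP ti n)

/-- a derivation of triviality -/
noncomputable def okSteps : List Nat → Nat → List Move → Bool
  | [], n, [] => Nat.beq n idP
  | _ :: _, _, [] => false
  | w, n, m :: ms => okMove w n m && okSteps m.next m.front ms

/-- the segments of a word are sextet words -/
noncomputable def okSegs : List Nat → List (Nat × Bool × Nat × Nat) → Bool
  | w, [] => eqL w []
  | w, (k, rev, a, ai) :: rest =>
    okPerm a ai && moveSx a baseSext k &&
      okW a baseWord (bif rev then (w.take 3).reverse else w.take 3) && okSegs (w.drop 3) rest

/-- an identity is valid -/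
noncomputable def okIdent (I : Ident) : Bool :=
  okSegs I.word I.segs && okSteps I.word idP I.steps

end CfsgLib.Spor.J4.Order
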