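import Cfsg.Agent.Lib.Spor.J4.Order.IdData

/-!
Soundness of the derivations of identities.
-/

set_option autoImplicit false

namespace CfsgLib.Spor.J4.Order

open CfsgLib.PresCert CfsgLib.Spor Cfsg CfsgLib.Spor.J4.Index
open scoped Pointwise

/-- the presented group -/
local notation "J" => Cfsg.Spor.J4

/-- product of conjugates of `t`, read from left to right -/
noncomputable def rProd (w : List ℕ) : J := (w.map tT).prod

theorem rProd_append (u w : List ℕ) : rProd (u ++ w) = rProd u * rProd w := by simp [rProd]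

theorem actProd_inv (w : List ℕ) : (actProd w)⁻¹ = rProd w := by
  induction w with
  | nil => simp [actProd, rProd]
  | cons b w ih =>
    have hb : (tT b)⁻¹ = tT b := inv_eq_of_mul_eq_one_right tT_sq
    simp [actProd, rProd, mul_inv_rev, ih, hb]

theorem rProd_reverse (w : List ℕ) : rProd w.reverse = (rProd w)⁻¹ := by
  rw [← actProd_inv, ← actProd_inv, inv_inv]
  exact inv_eq_of_mul_eq_one_right (actProd_reverse w)

theorem okW_rProd {a : ℕ} {cs bs : List ℕ} (ha : Valid a) (h : okW a cs bs = true) :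
    rProd bs = psi (el a) * rProd cs * (psi (el a))⁻¹ := by
  rw [← actProd_inv, ← actProd_inv, okW_spec ha h]
  group

theorem eqL_eq : ∀ {a b : List ℕ}, eqL a b = true → a = b
  | [], [], _ => rfl
  | [], _ :: _, h => by simp [eqL] at h
  | _ :: _, [], h => by simp [eqL] at h
  | x :: a, y :: b, h => by
    simp only [eqL, Bool.and_eq_true, Nat.beq_eq] at h
    rw [h.1, eqL_eq h.2]

theorem form_fixed : moveTo (baseRels.getD 1 ([], 0, 0)).2.1
    ((baseRels.getD 1 ([], 0, 0)).1.headD 0) ((baseRels.getD 1 ([], 0, 0)).1.headD 0) = true ∧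
    eqL ((baseRels.getD 1 ([], 0, 0)).1.headD 0 :: (baseRels.getD 1 ([], 0, 0)).1.drop 1)
      (baseRels.getD 1 ([], 0, 0)).1 = true ∧
    eqL ((baseRels.getD 1 ([], 0, 0)).1.take 1) [(baseRels.getD 1 ([], 0, 0)).1.headD 0] = true := by
  decide +kernel

theorem rel_tail {r : ℕ} (hr : r < 3) :
    okPerm (baseRels.getD r ([], 0, 0)).2.1 (baseRels.getD r ([], 0, 0)).2.2 = true ∧
      psi (el (baseRels.getD r ([], 0, 0)).2.1) = rProd (baseRels.getD r ([], 0, 0)).1 := by
  obtain ⟨h, h1, -⟩ := rel_base (r := r) (by omega)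
  exact ⟨h, (eq_inv_of_mul_eq_one_left (h1 hr)).trans (actProd_inv _)⟩

theorem form_ok {f : ℕ} (hf : f < 4) :
    okPerm (forms.getD f ([], 0, 0)).2.1 (forms.getD f ([], 0, 0)).2.2 = true ∧
      psi (el (forms.getD f ([], 0, 0)).2.1) = rProd (forms.getD f ([], 0, 0)).1 := by
  interval_cases f
  · exact rel_tail (r := 0) (by norm_num)
  · exact rel_tail (r := 1) (by norm_num)
  · obtain ⟨hp, e⟩ := rel_tail (r := 1) (by norm_num)
    refine ⟨hp, ?_⟩
    show psi (el (baseRels.getD 1 ([], 0, 0)).2.1) =
      rProd ((baseRels.getD 1 ([], 0, 0)).1.drop 1 ++ (baseRels.getD 1 ([], 0, 0)).1.take 1)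
    obtain ⟨hmv, hsplit, htake⟩ := form_fixed
    have hc := tT_conj (rep_el (okPerm_spec hp).1) hmv
    set r := baseRels.getD 1 ([], 0, 0)
    set a := r.1.headD 0
    rw [eqL_eq htake, rProd_append]
    rw [← eqL_eq hsplit] at e
    have e' : psi (el r.2.1) = tT a * rProd (r.1.drop 1) := by rw [e]; simp [rProd]
    have h1 : rProd [a] = tT a := by simp [rProd]
    have h2 : rProd (r.1.drop 1) = (tT a)⁻¹ * psi (el r.2.1) := by rw [e']; group
    have hcomm : tT a * psi (el r.2.1) = psi (el r.2.1) * tT a := by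
      conv_lhs => rw [hc]
      group
    rw [h1, h2, mul_assoc, ← hcomm]
    group
  · exact rel_tail (r := 2) (by norm_num)

/-- value of a state -/
noncomputable def stVal (w : List ℕ) (n : ℕ) : J := (psi (el n))⁻¹ * rProd w

theorem split3 (l : List ℕ) (p c : ℕ) :
    l = l.take p ++ ((l.drop p).take c ++ l.drop (p + c)) := by
  rw [← List.drop_drop, List.take_append_drop, List.take_append_drop]

theorem okMove_sound {w : List ℕ} {n : ℕ} {m : Move} (hn : Valid n) (h : okMove w n m = true) :
    Valid m.front ∧ stVal w n = stVal m.next m.front := by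
  simp only [okMove, Bool.and_eq_true, Nat.beq_eq] at h
  obtain ⟨⟨⟨⟨⟨⟨⟨⟨hf, hcut⟩, hlen⟩, hperm⟩, hu⟩, hv⟩, hpre⟩, hpost⟩, hfr⟩ := h
  obtain ⟨hform, htail⟩ := form_ok (blt_lt hf)
  obtain ⟨hs, hsi, hsinv⟩ := okPerm_spec hperm
  obtain ⟨ht, hti, htinv⟩ := okPerm_spec hform
  set F := forms.getD m.form ([], 0, 0)
  obtain ⟨hva, hea⟩ := valid_comp hs hti
  obtain ⟨hvt, het⟩ := valid_comp hva hsi
  rw [hea, htinv, hsinv] at het
  obtain ⟨hvf, hef⟩ := valid_comp hvt hn
  refine ⟨hfr ▸ hvf, ?_⟩
  have hu' := okW_rProd hs hu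
  have hv' := okW_rProd hs hv
  have hpre' := okW_rProd hvt hpre
  have hbase : rProd (F.1.take m.cut) * rProd (F.1.drop m.cut) = psi (el F.2.1) := by
    rw [← rProd_append, List.take_append_drop, htail]
  rw [rProd_reverse] at hv'
  set k := F.1.length
  have hpost' := eqL_eq hpost
  rw [stVal, stVal, hfr, hef, split3 w m.pos m.cut, split3 m.next m.pos (Nat.sub k m.cut)]
  change _ = _ * rProd (_ ++ (_ ++ m.next.drop (Nat.add m.pos (Nat.sub k m.cut))))
  rw [hpost']
  simp only [rProd_append]
  rw [show rProd (w.drop (Nat.add m.pos m.cut)) = rProd (w.drop (m.pos + m.cut)) from rfl,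
    hu', hpre']
  have hv'' : rProd ((m.next.drop m.pos).take (Nat.sub k m.cut)) =
      (psi (el m.conj) * rProd (F.1.drop m.cut) * (psi (el m.conj))⁻¹)⁻¹ := by
    rw [← hv', inv_inv]
  rw [hv'', map_mul, het, map_mul, map_mul, map_inv, map_inv, ← hbase]
  generalize psi (el n) = a
  generalize psi (el m.conj) = s
  generalize rProd (F.1.take m.cut) = u
  generalize rProd (F.1.drop m.cut) = v
  generalize rProd (w.take m.pos) = p
  generalize rProd (w.drop (m.pos + m.cut)) = q
  group

theorem okSteps_sound : ∀ (ms : List Move) (w : List ℕ) (n : ℕ), okSteps w n ms = true →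
    Valid n → stVal w n = 1
  | [], [], n, h, _ => by
    simp only [okSteps, Nat.beq_eq] at h
    simp [stVal, h, valid_id.2, rProd]
  | [], _ :: _, _, h, _ => by simp [okSteps] at h
  | m :: ms, w, n, h, hn => by
    simp only [okSteps, Bool.and_eq_true] at h
    obtain ⟨h1, h2⟩ := okMove_sound hn h.1
    exact h2.trans (okSteps_sound ms _ _ h.2 h1)

/-- the element of the base sextet -/
noncomputable def s0 : J := rProd baseWord

/-- value of a segment -/
noncomputable def segVal : ℕ × Bool × ℕ × ℕ → J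
  | (_, rev, a, _) => bif rev then (psi (el a) * s0 * (psi (el a))⁻¹)⁻¹
      else psi (el a) * s0 * (psi (el a))⁻¹

theorem okSegs_sound : ∀ (segs : List (ℕ × Bool × ℕ × ℕ)) (w : List ℕ), okSegs w segs = true →
    rProd w = (segs.map segVal).prod
  | [], w, h => by simp [eqL_eq (show eqL w [] = true from h), rProd]
  | (k, rev, a, ai) :: rest, w, h => by
    simp only [okSegs, Bool.and_eq_true] at h
    obtain ⟨⟨⟨hp, -⟩, hW⟩, hrest⟩ := h
    have hW' := okW_rProd (okPerm_spec hp).1 hW
    conv_lhs => rw [← List.take_append_drop 3 w, rProd_append, okSegs_sound rest _ hrest]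
    rw [List.map_cons, List.prod_cons]
    congr 1
    cases rev with
    | true =>
      rw [cond_true, rProd_reverse] at hW'
      show _ = (psi (el a) * s0 * (psi (el a))⁻¹)⁻¹
      rw [s0, ← hW', inv_inv]
    | false =>
      rw [cond_false] at hW'
      exact hW'

theorem okIdent_sound {I : Ident} (h : okIdent I = true) : (I.segs.map segVal).prod = 1 := by
  simp only [okIdent, Bool.and_eq_true] at h
  rw [← okSegs_sound _ _ h.1]
  have := okSteps_sound _ _ _ h.2 valid_id.1
  simpa [stVal, valid_id.2] using this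

theorem id_sq_ok : okIdent id_sq = true := by decide +kernel

theorem id_stabA_ok : okIdent id_stabA = true := by decide +kernel

theorem id_stabB_ok : okIdent id_stabB = true := by decide +kernel

theorem id_line_ok : okIdent id_line = true := by decide +kernel

theorem id_com2_ok : okIdent id_com2 = true := by decide +kernel

theorem id_tuv0_ok : okIdent id_tuv0 = true := by decide +kernel

end CfsgLib.Spor.J4.Order
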