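import Cfsg.Agent.Lib.Spor.J4.Index.Sem
import Cfsg.Agent.Lib.Spor.J4.Order.SextData

/-!
The sextets, their orbit and the stabiliser of the base sextet.
-/

set_option autoImplicit false

namespace CfsgLib.Spor.J4.Order

open CfsgLib.PresCert CfsgLib.Spor Cfsg CfsgLib.Spor.J4.Index
open scoped Pointwise

/-- one tetrad -/
noncomputable def sxM (k z : Nat) : Nat :=
  Nat.land (Nat.shiftRight (sextMask.get k) (Nat.mul 24 z)) 16777215

/-- points of one tetrad -/
noncomputable def sxQ (k z : Nat) : Nat :=
  Nat.land (Nat.shiftRight (sextPts.get k) (Nat.mul 20 z)) 1048575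

/-- image mask of four packed points -/
noncomputable def actR (a q : Nat) : Nat :=
  Nat.rec (motive := fun _ => Nat) 0
    (fun i acc => Nat.lor acc (Nat.shiftLeft 1 (getP a (getP q i)))) 4

/-- the six tetrads in order -/
noncomputable def sxList (k : Nat) : List Nat := (List.range 6).map (sxM k)

/-- strictly increasing -/
noncomputable def ascB : List Nat → Bool
  | [] => true
  | x :: l => l.all (fun y => Nat.blt x y) && ascB l

/-- a key for ordering sextets -/
noncomputable def sxKey (k : Nat) : Nat :=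
  (sxList k).foldl (fun acc m => Nat.add (Nat.shiftLeft acc 24) m) 0

/-- the table of sextets is consistent -/
noncomputable def okSext (k : Nat) : Bool :=
  ascB (sxList k) &&
    allBelow 6 (fun z => Nat.beq (actR idP (sxQ k z)) (sxM k z) &&
      allBelow 4 (fun i => Nat.blt (getP (sxQ k z) i) 24)) &&
    (Nat.beq k 1770 || Nat.blt (sxKey k) (sxKey (Nat.succ k)))

/-- the permutation sends the sextet `k` to the sextet `k'` -/
noncomputable def moveSx (a k k' : Nat) : Bool :=
  let target := sxList k'
  Nat.blt k 1771 && Nat.blt k' 1771 &&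
    allBelow 6 (fun z => let v := actR a (sxQ k z); target.any fun m => Nat.beq v m)

/-- image under the first generator -/
noncomputable def sxX (k : Nat) : Nat := Nat.land (sextOrb.get k) 2047

/-- image under the second generator -/
noncomputable def sxY (k : Nat) : Nat := Nat.land (Nat.shiftRight (sextOrb.get k) 11) 2047

/-- predecessor in the orbit -/
noncomputable def sxPar (k : Nat) : Nat := Nat.land (Nat.shiftRight (sextOrb.get k) 22) 2047

/-- generator from the predecessor -/
noncomputable def sxGen (k : Nat) : Bool :=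
  Nat.beq (Nat.land (Nat.shiftRight (sextOrb.get k) 33) 1) 1

/-- rank in the orbit -/
noncomputable def sxRank (k : Nat) : Nat := Nat.shiftRight (sextOrb.get k) 34

/-- one line of the orbit of the base sextet -/
noncomputable def okSxOrb (k : Nat) : Bool :=
  moveSx mAa k (sxX k) && moveSx mBi k (sxY k) &&
    (Nat.beq k baseSext || (Nat.blt (sxRank (sxPar k)) (sxRank k) &&
      moveSx (bif sxGen k then mBi else mAa) (sxPar k) k))

theorem testBit_actR_aux (a q j : ℕ) : ∀ n,
    (Nat.rec (motive := fun _ => Nat) 0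
      (fun i acc => Nat.lor acc (Nat.shiftLeft 1 (getP a (getP q i)))) n).testBit j = true ↔
      ∃ i < n, getP a (getP q i) = j := testBit_actQ_aux a q j

theorem testBit_actR (a q j : ℕ) :
    (actR a q).testBit j = true ↔ ∃ i < 4, getP a (getP q i) = j := testBit_actR_aux a q j 4

theorem toSet_actR {σ : Equiv.Perm GolayPt} {a q : ℕ} (h : Rep σ a)
    (hq : ∀ i < 4, getP q i < 24) : toSet (actR a q) = σ • toSet (actR idP q) := by
  ext p
  rw [mem_toSet, testBit_actR, Finset.mem_smul_finset]
  constructor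
  · rintro ⟨i, hi, e⟩
    refine ⟨pt (getP q i), ?_, ?_⟩
    · rw [mem_toSet, testBit_actR]
      exact ⟨i, hi, by rw [idx_pt (hq i hi), getP_idP _ (hq i hi)]⟩
    · rw [Equiv.Perm.smul_def]
      exact idx_injective (by rw [← h _ (hq i hi), e])
  · rintro ⟨r, hr, rfl⟩
    rw [mem_toSet, testBit_actR] at hr
    obtain ⟨i, hi, e⟩ := hr
    refine ⟨i, hi, ?_⟩
    rw [getP_idP _ (hq i hi)] at e
    rw [e, h.get, Equiv.Perm.smul_def]

theorem actR_id_lt {q : ℕ} (hq : ∀ i < 4, getP q i < 24) : actR idP q < 2 ^ 24 := by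
  apply Nat.lt_pow_two_of_testBit
  intro j hj
  by_contra hc
  rw [Bool.not_eq_false, testBit_actR] at hc
  obtain ⟨i, hi, e⟩ := hc
  rw [getP_idP _ (hq i hi)] at e
  have := hq i hi
  omega

/-- ordering key of a list -/
theorem key_congr {k k' : ℕ} (h : sxList k = sxList k') : sxKey k = sxKey k' :=
  congrArg (fun l : List ℕ => l.foldl (fun acc m => Nat.add (Nat.shiftLeft acc 24) m) 0) h

attribute [local irreducible] sxKey

theorem sext_table : allBelow 1771 okSext = true := by decide +kernel

theorem sx_facts {k : ℕ} (hk : k < 1771) :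
    ascB (sxList k) = true ∧
      ∀ z < 6, (∀ i < 4, getP (sxQ k z) i < 24) ∧ actR idP (sxQ k z) = sxM k z ∧
        sxM k z < 2 ^ 24 := by
  have h := allBelow_spec sext_table k hk
  simp only [okSext, Bool.and_eq_true] at h
  refine ⟨h.1.1, fun z hz => ?_⟩
  have h2 := allBelow_spec h.1.2 z hz
  simp only [Bool.and_eq_true, Nat.beq_eq] at h2
  have hq : ∀ i < 4, getP (sxQ k z) i < 24 := fun i hi =>
    Nat.le_of_ble_eq_true (allBelow_spec h2.2 i hi)
  exact ⟨hq, h2.1, h2.1 ▸ actR_id_lt hq⟩

/-- the six tetrads of a sextet -/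
noncomputable def Sx (k : ℕ) : Finset (Finset GolayPt) := ((sxList k).toFinset).image toSet

theorem sxList_lt {k : ℕ} (hk : k < 1771) : ∀ m ∈ sxList k, m < 2 ^ 24 := by
  intro m hm
  obtain ⟨z, hz, rfl⟩ := List.mem_map.1 hm
  exact ((sx_facts hk).2 z (List.mem_range.1 hz)).2.2

theorem image_mask_Sx {k : ℕ} (hk : k < 1771) : (Sx k).image mask = (sxList k).toFinset := by
  rw [Sx, Finset.image_image]
  conv_rhs => rw [← Finset.image_id (s := (sxList k).toFinset)]
  exact Finset.image_congr fun m hm => mask_toSet (sxList_lt hk m (List.mem_toFinset.1 hm))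

theorem asc_nodup : ∀ {l : List ℕ}, ascB l = true → l.Nodup
  | [], _ => List.nodup_nil
  | x :: l, h => by
    simp only [ascB, Bool.and_eq_true, List.all_eq_true, Nat.blt_eq] at h
    exact List.nodup_cons.2 ⟨fun hm => lt_irrefl x (h.1 x hm), asc_nodup h.2⟩

theorem asc_ext : ∀ {l m : List ℕ}, ascB l = true → ascB m = true →
    (∀ x, x ∈ l ↔ x ∈ m) → l = m
  | [], [], _, _, _ => rfl
  | [], y :: m, _, _, h => absurd ((h y).2 (List.mem_cons_self ..)) List.not_mem_nil
  | x :: l, [], _, _, h => absurd ((h x).1 (List.mem_cons_self ..)) List.not_mem_nil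
  | x :: l, y :: m, hl, hm, h => by
    simp only [ascB, Bool.and_eq_true, List.all_eq_true, Nat.blt_eq] at hl hm
    have hxy : x = y := by
      rcases List.mem_cons.1 ((h x).1 (List.mem_cons_self ..)) with e | e
      · exact e
      · rcases List.mem_cons.1 ((h y).2 (List.mem_cons_self ..)) with f | f
        · exact f.symm
        · have := hm.1 x e
          have := hl.1 y f
          omega
    subst hxy
    refine congrArg _ (asc_ext hl.2 hm.2 fun z => ⟨fun hz => ?_, fun hz => ?_⟩)
    · rcases List.mem_cons.1 ((h z).1 (List.mem_cons_of_mem _ hz)) with e | e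
      · exact absurd (hl.1 z hz) (e ▸ lt_irrefl _)
      · exact e
    · rcases List.mem_cons.1 ((h z).2 (List.mem_cons_of_mem _ hz)) with e | e
      · exact absurd (hm.1 z hz) (e ▸ lt_irrefl _)
      · exact e

theorem card_Sx {k : ℕ} (hk : k < 1771) : (Sx k).card = 6 := by
  rw [Sx, Finset.card_image_of_injOn, List.toFinset_card_of_nodup (asc_nodup (sx_facts hk).1)]
  · simp [sxList]
  · intro a ha b hb e
    rw [Finset.mem_coe, List.mem_toFinset] at ha hb
    rw [← mask_toSet (sxList_lt hk a ha), ← mask_toSet (sxList_lt hk b hb), e]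

theorem moveSx_spec {a k k' : ℕ} {σ : M24} (hσ : Rep (σ : Equiv.Perm GolayPt) a)
    (h : moveSx a k k' = true) : k < 1771 ∧ k' < 1771 ∧ σ • Sx k = Sx k' := by
  simp only [moveSx, Bool.and_eq_true, Nat.blt_eq] at h
  obtain ⟨⟨hk, hk'⟩, hm⟩ := h
  refine ⟨hk, hk', Finset.eq_of_subset_of_card_le ?_
    (by rw [Finset.card_smul_finset, card_Sx hk, card_Sx hk'])⟩
  intro s hs
  obtain ⟨y, hy, rfl⟩ := Finset.mem_smul_finset.1 hs
  obtain ⟨m, hm', rfl⟩ := Finset.mem_image.1 hy
  obtain ⟨z, hz, rfl⟩ := List.mem_map.1 (List.mem_toFinset.1 hm')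
  obtain ⟨hq, e, -⟩ := (sx_facts hk).2 z (List.mem_range.1 hz)
  obtain ⟨m', hmem, heq⟩ := List.any_eq_true.1 (allBelow_spec hm z (List.mem_range.1 hz))
  refine Finset.mem_image.2 ⟨m', List.mem_toFinset.2 hmem, ?_⟩
  show toSet m' = (σ : Equiv.Perm GolayPt) • toSet (sxM k z)
  rw [← e, ← toSet_actR hσ hq, Nat.eq_of_beq_eq_true heq]

theorem sx_injective {k k' : ℕ} (hk : k < 1771) (hk' : k' < 1771) (h : Sx k = Sx k') :
    k = k' := by
  have hl : sxList k = sxList k' := asc_ext (sx_facts hk).1 (sx_facts hk').1 fun x => by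
    have := congrArg (Finset.image mask) h
    rw [image_mask_Sx hk, image_mask_Sx hk'] at this
    rw [← List.mem_toFinset, this, List.mem_toFinset]
  have mono : ∀ n m, n < m → m < 1771 → sxKey n < sxKey m := by
    intro n m hnm hm
    induction m with
    | zero => omega
    | succ m ih =>
      have h := allBelow_spec sext_table m (by omega)
      simp only [okSext, Bool.and_eq_true, Bool.or_eq_true, Nat.blt_eq, Nat.beq_eq] at h
      have hs := h.2.resolve_left (by omega)
      rcases Nat.lt_succ_iff_lt_or_eq.1 hnm with hn | rfl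
      · exact (ih hn (by omega)).trans hs
      · exact hs
  have e : sxKey k = sxKey k' := key_congr hl
  rcases lt_trichotomy k k' with hl | he | hl
  · exact absurd e (mono _ _ hl hk').ne
  · exact he
  · exact absurd e (mono _ _ hl hk).ne'

theorem sxOrbit_table : allBelow 1771 okSxOrb = true := by decide +kernel

theorem baseSext_lt : baseSext < 1771 := by decide +kernel

theorem exists_to_sx {k : ℕ} (hk : k < 1771) : ∃ g : M24, g • Sx baseSext = Sx k := by
  induction hr : sxRank k using Nat.strong_induction_on generalizing k with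
  | _ r ih =>
    have h := allBelow_spec sxOrbit_table k hk
    simp only [okSxOrb, Bool.and_eq_true, Bool.or_eq_true, Nat.beq_eq, Nat.blt_eq] at h
    rcases h.2 with rfl | ⟨hlt, hm⟩
    · exact ⟨1, one_smul _ _⟩
    · obtain ⟨s, hs⟩ : ∃ s : M24,
          Rep (s : Equiv.Perm GolayPt) (bif sxGen k then mBi else mAa) := by
        cases sxGen k
        · exact ⟨M24Iso.ga, rep_ga⟩
        · exact ⟨M24Iso.gb⁻¹, rep_gbi⟩
      obtain ⟨hp, -, e⟩ := moveSx_spec hs hm
      obtain ⟨g, hg⟩ := ih _ (hr ▸ hlt) hp rfl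
      exact ⟨s * g, by rw [mul_smul, hg, e]⟩

/-- the sextets as a finite set -/
noncomputable def allSx : Finset (Finset (Finset GolayPt)) := (Finset.range 1771).image Sx

theorem card_allSx : allSx.card = 1771 := by
  rw [allSx, Finset.card_image_of_injOn, Finset.card_range]
  intro a ha b hb h
  exact sx_injective (Finset.mem_range.1 ha) (Finset.mem_range.1 hb) h

theorem allSx_fixed (g : M24) : g • allSx = allSx := by
  have key : ∀ s : M24, (∀ k < 1771, ∃ k' < 1771, s • Sx k = Sx k') → s • allSx = allSx := by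
    intro s hs
    refine Finset.eq_of_subset_of_card_le ?_ (by rw [Finset.card_smul_finset])
    intro x hx
    obtain ⟨y, hy, rfl⟩ := Finset.mem_smul_finset.1 hx
    obtain ⟨k, hk, rfl⟩ := Finset.mem_image.1 hy
    obtain ⟨k', hk', e⟩ := hs k (Finset.mem_range.1 hk)
    exact Finset.mem_image.2 ⟨k', Finset.mem_range.2 hk', e.symm⟩
  have hg : g ∈ Subgroup.closure {M24Iso.ga, M24Iso.gb} := M24Iso.gen_top ▸ Subgroup.mem_top g
  show g ∈ MulAction.stabilizer M24 allSx
  refine (Subgroup.closure_le _).2 ?_ hg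
  rintro _ (rfl | rfl)
  · refine key _ fun k hk => ?_
    have h := allBelow_spec sxOrbit_table k hk
    simp only [okSxOrb, Bool.and_eq_true] at h
    exact ⟨_, (moveSx_spec rep_ga h.1.1).2⟩
  · rw [SetLike.mem_coe, ← inv_mem_iff]
    refine key _ fun k hk => ?_
    have h := allBelow_spec sxOrbit_table k hk
    simp only [okSxOrb, Bool.and_eq_true] at h
    exact ⟨_, (moveSx_spec rep_gbi h.1.2).2⟩

theorem exists_sx (g : M24) {k : ℕ} (hk : k < 1771) : ∃ k' < 1771, g • Sx k = Sx k' := by
  have h : g • Sx k ∈ allSx := by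
    rw [← allSx_fixed g]
    exact Finset.smul_mem_smul_finset (Finset.mem_image.2 ⟨k, Finset.mem_range.2 hk, rfl⟩)
  obtain ⟨k', hk', e⟩ := Finset.mem_image.1 h
  exact ⟨k', Finset.mem_range.1 hk', e.symm⟩

theorem card_stab_sx :
    Nat.card (MulAction.stabilizer M24 (Sx baseSext)) * 1771 = 244823040 := by
  have horb : MulAction.orbit M24 (Sx baseSext) = ↑allSx := by
    ext x
    rw [Finset.mem_coe, allSx, Finset.mem_image, MulAction.mem_orbit_iff]
    constructor
    · rintro ⟨g, rfl⟩
      obtain ⟨k, hk, e⟩ := exists_sx g baseSext_lt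
      exact ⟨k, Finset.mem_range.2 hk, e.symm⟩
    · rintro ⟨k, hk, rfl⟩
      exact exists_to_sx (Finset.mem_range.1 hk)
  rw [← natCard_M24, ← Subgroup.card_mul_index (MulAction.stabilizer M24 (Sx baseSext)),
    MulAction.index_stabilizer, horb, Set.ncard_coe_finset, card_allSx]

theorem sext_program : okProgram (sextGens.map Prod.fst) sextSLP sextLevels = true := by
  decide +kernel

theorem sext_size : chainSize sextLevels = 138240 := by decide +kernel

theorem sext_gens_ok : (sextGens.all fun p =>
    okPerm p.1 p.2 && moveSx p.1 baseSext baseSext) = true := by decide +kernel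

theorem stab_sx_eq : MulAction.stabilizer M24 (Sx baseSext) =
    Subgroup.closure {g | ∃ p ∈ sextGens, g = el p.1} := by
  have hg : ∀ p ∈ sextGens, Valid p.1 ∧ el p.1 • Sx baseSext = Sx baseSext := fun p hp => by
    have := List.all_eq_true.1 sext_gens_ok p hp
    simp only [Bool.and_eq_true] at this
    obtain ⟨hv, -, -⟩ := okPerm_spec this.1
    exact ⟨hv, (moveSx_spec (rep_el hv) this.2).2.2⟩
  have hle : Subgroup.closure {g | ∃ p ∈ sextGens, g = el p.1} ≤
      MulAction.stabilizer M24 (Sx baseSext) := by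
    rw [Subgroup.closure_le]
    rintro _ ⟨p, hp, rfl⟩
    exact (hg p hp).2
  have h := le_card_of_program sext_program _ fun a ha => by
    obtain ⟨p, hp, rfl⟩ := List.mem_map.1 ha
    exact ⟨(hg p hp).1, (Subgroup.subset_closure ⟨p, hp, rfl⟩ :
      el p.1 ∈ Subgroup.closure {g | ∃ p ∈ sextGens, g = el p.1})⟩
  rw [sext_size] at h
  have := card_stab_sx
  exact (Subgroup.eq_of_le_of_card_ge hle (by omega)).symm

end CfsgLib.Spor.J4.Order
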